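import Cfsg.Agent.PSL3Cover.Basic
import Cfsg.Agent.Classical.LinearBasic

/-!
Elements of order three modulo scalars in SL(3,4).
-/

set_option autoImplicit false

namespace Cfsg.Agent.SL34

open Matrix

variable {F : Type*} [Field F] [Fintype F]

theorem cube_one (hF : Fintype.card F = 4) {a : F} (ha : a ≠ 0) : a ^ 3 = 1 := by
  have h := FiniteField.pow_card_sub_one_eq_one a ha
  rwa [hF] at h

theorem char_two (hF : Fintype.card F = 4) : CharP F 2 := by
  obtain ⟨p, hp⟩ := CharP.exists F
  obtain ⟨n, hpr, hn⟩ := FiniteField.card F p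
  rw [hF] at hn
  have h2 : p ∣ 2 ^ 2 := by
    norm_num
    rw [hn]; exact dvd_pow_self _ n.ne_zero
  have : p = 2 := (Nat.prime_dvd_prime_iff_eq hpr Nat.prime_two).1 (hpr.dvd_of_dvd_pow h2)
  rw [← this]; exact hp

theorem exists_omega (hF : Fintype.card F = 4) : ∃ w : F, w ≠ 0 ∧ w ≠ 1 := by
  classical
  obtain ⟨w, hw⟩ : ∃ w : F, w ∉ ({0, 1} : Finset F) := by
    by_contra h
    push Not at h
    have := Finset.card_le_card (fun x (_ : x ∈ Finset.univ) => h x)
    rw [Finset.card_univ, hF] at this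
    exact absurd (this.trans Finset.card_le_two) (by norm_num)
  simp only [Finset.mem_insert, Finset.mem_singleton, not_or] at hw
  exact ⟨w, hw⟩

theorem key (hF : Fintype.card F = 4) {g : Matrix (Fin 3) (Fin 3) F} (hdet : g.det = 1)
    {c : F} (hc : g * (g * g) = c • (1 : Matrix (Fin 3) (Fin 3) F)) (hns : ∀ l : F, g ≠ l • 1) :
    c = 1 ∧ g.trace = 0 ∧ (g * g).trace = 0 := by
  haveI := char_two hF
  set t := g.trace with ht
  set s := PSL3Cover.sec3 g with hs
  have hch := PSL3Cover.cube_eq g
  rw [hdet, one_smul, hc, ← ht, ← hs] at hch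
  have q0 : t • (g * g) - s • g + (1 - c) • (1 : Matrix (Fin 3) (Fin 3) F) = 0 := by
    rw [sub_smul, one_smul, hch]; abel
  have q1 : t • (c • (1 : Matrix (Fin 3) (Fin 3) F)) - s • (g * g) + (1 - c) • g = 0 := by
    have := congrArg (fun m => g * m) q0
    simpa [mul_add, mul_sub, Matrix.mul_smul, hc] using this
  have q2 : (t * (1 - c) - s * s) • g + (s * (1 - c) + t * t * c) • (1 : Matrix (Fin 3) (Fin 3) F) = 0 := by
    have : s • (t • (g * g) - s • g + (1 - c) • (1 : Matrix (Fin 3) (Fin 3) F))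
        + t • (t • (c • (1 : Matrix (Fin 3) (Fin 3) F)) - s • (g * g) + (1 - c) • g) = 0 := by
      rw [q0, q1]; simp
    rw [← this]; module
  have h1 : t * (1 - c) - s * s = 0 := by
    by_contra h
    apply hns (-((t * (1 - c) - s * s)⁻¹ * (s * (1 - c) + t * t * c)))
    have h' : (t * (1 - c) - s * s) • g = -((s * (1 - c) + t * t * c) • (1 : Matrix (Fin 3) (Fin 3) F)) :=
      eq_neg_of_add_eq_zero_left q2
    calc g = (t * (1 - c) - s * s)⁻¹ • ((t * (1 - c) - s * s) • g) := (inv_smul_smul₀ h g).symm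
      _ = _ := by rw [h']; module
  have h2 : s * (1 - c) + t * t * c = 0 := by
    rw [h1, zero_smul, zero_add] at q2
    simpa using congrFun (congrFun q2 0) 0
  have hd : 1 - c = 0 := by
    by_contra hd
    by_cases ht0 : t = 0
    · have : s = 0 := by simpa [ht0, hd] using h2
      rw [ht0, this] at q0
      exact hd (by simpa using congrFun (congrFun q0 0) 0)
    · have hs0 : s ≠ 0 := fun e => by simp [e, ht0, hd] at h1
      have e1 : c * t ^ 3 = -(s ^ 3) := by linear_combination t * h2 - s * h1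
      rw [cube_one hF ht0, cube_one hF hs0, mul_one, CharTwo.neg_eq] at e1
      exact hd (by rw [e1, sub_self])
  have hc1 : c = 1 := (sub_eq_zero.1 hd).symm
  have ht0 : t = 0 := by
    rw [hd, mul_zero, zero_add, hc1, mul_one] at h2
    exact mul_self_eq_zero.1 h2
  refine ⟨hc1, ht0, ?_⟩
  have : (g * g).trace = t * t - 2 * s := by
    simp [ht, hs, Matrix.trace_fin_three, Matrix.mul_apply, Fin.sum_univ_three, PSL3Cover.sec3]; ring
  rw [this, ht0, CharTwo.two_eq_zero]; ring

/-- The standard element. -/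
def diagW (hF : Fintype.card F = 4) {w : F} (hw : w ≠ 0) : Matrix.SpecialLinearGroup (Fin 3) F :=
  ⟨Matrix.diagonal ![1, w, w ^ 2], by
    rw [Matrix.det_diagonal, Fin.prod_univ_three]
    simp only [Matrix.cons_val]
    linear_combination cube_one hF hw⟩

theorem conj_diag (hF : Fintype.card F = 4) {w : F} (hw : w ≠ 0) (hw1 : w ≠ 1)
    (g : Matrix.SpecialLinearGroup (Fin 3) F) (hc : g ^ 3 ∈ Subgroup.center _)
    (hns : g ∉ Subgroup.center _) :
    ∃ P : Matrix.SpecialLinearGroup (Fin 3) F, g * P = P * diagW hF hw := by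
  classical
  haveI := char_two hF
  set M : Matrix (Fin 3) (Fin 3) F := (g : Matrix (Fin 3) (Fin 3) F) with hM
  obtain ⟨c, -, hcs⟩ := Matrix.SpecialLinearGroup.mem_center_iff.1 hc
  have hg3 : M * (M * M) = c • 1 := by
    rw [Matrix.smul_one_eq_diagonal]
    have : ((g ^ 3 : Matrix.SpecialLinearGroup (Fin 3) F) : Matrix (Fin 3) (Fin 3) F) = M * (M * M) := by
      rw [Matrix.SpecialLinearGroup.coe_pow, pow_three]
    rw [← this, ← hcs]; rfl
  have hscal : ∀ l : F, M ≠ l • 1 := by
    intro l hl
    refine hns (Matrix.SpecialLinearGroup.mem_center_iff.2 ⟨l, ?_, ?_⟩)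
    · have := g.2
      rw [← hM, hl, Matrix.det_smul, Matrix.det_one, mul_one] at this
      exact this
    · rw [← hM, hl, Matrix.smul_one_eq_diagonal]; rfl
  obtain ⟨hc1, t1, t2⟩ := key hF g.2 hg3 hscal
  rw [hc1, one_smul] at hg3
  let lam : Fin 3 → F := ![1, w, w ^ 2]
  have hl0 : ∀ i, lam i ≠ 0 := by intro i; fin_cases i <;> simp [lam, hw]
  have hlinj : Function.Injective lam := by
    have hw21 : w ^ 2 ≠ 1 := fun h => hw1 (by
      have := cube_one hF hw
      rw [pow_succ, h, one_mul] at this; exact this)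
    have hw2w : w ^ 2 ≠ w := fun h => hw1 (mul_left_cancel₀ hw (by rw [← pow_two, h, mul_one]))
    intro i j h
    fin_cases i <;> fin_cases j <;> first | rfl | (simp only [lam, Fin.zero_eta, Fin.mk_one, Fin.reduceFinMk, Matrix.cons_val] at h; first | exact absurd h hw1 | exact absurd h.symm hw1 | exact absurd h hw21 | exact absurd h.symm hw21 | exact absurd h hw2w | exact absurd h.symm hw2w)
  have hE : ∀ i, ∃ v : Fin 3 → F, v ≠ 0 ∧ M *ᵥ v = lam i • v := by
    intro i
    set a := lam i with ha
    set E := (1 : Matrix (Fin 3) (Fin 3) F) + (a ^ 2) • M + a • (M * M) with hEd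
    have ha3 := cube_one hF (hl0 i)
    have hME : M * E = a • E := by
      rw [hEd, mul_add, mul_add, Matrix.mul_smul, Matrix.mul_smul, hg3, mul_one, smul_add, smul_add,
        smul_smul, smul_smul, show a * a ^ 2 = 1 by rw [← ha3]; ring, one_smul, ← pow_two a]
      abel
    have htr : E.trace = 1 := by
      rw [hEd, Matrix.trace_add, Matrix.trace_add, Matrix.trace_smul, Matrix.trace_smul, t1, t2,
        Matrix.trace_one]
      simp only [Fintype.card_fin, smul_zero, add_zero]
      norm_num
      rw [show (3 : F) = 2 + 1 by norm_num, CharTwo.two_eq_zero, zero_add]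
    obtain ⟨k, hk⟩ : ∃ k, E k k ≠ 0 := by
      by_contra h
      push Not at h
      rw [Matrix.trace] at htr
      simp [h] at htr
    refine ⟨fun r => E r k, fun e => hk (congrFun e k), ?_⟩
    ext r
    have := congrFun (congrFun hME r) k
    simpa [Matrix.mul_apply, Matrix.mulVec, dotProduct] using this
  choose v hv0 hv using hE
  have hli : LinearIndependent F v :=
    Module.End.eigenvectors_linearIndependent' (Matrix.toLin' M) lam hlinj v fun i =>
      Module.End.hasEigenvector_iff.2 ⟨Module.End.mem_eigenspace_iff.2 (by rw [Matrix.toLin'_apply]; exact hv i), hv0 i⟩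
  set P : Matrix (Fin 3) (Fin 3) F := Matrix.of fun r i => v i r with hP
  have hPu : IsUnit P := Matrix.linearIndependent_cols_iff_isUnit.1 hli
  have hPd : P.det ≠ 0 := ((Matrix.isUnit_iff_isUnit_det P).1 hPu).ne_zero
  have hMP : M * P = P * Matrix.diagonal lam := by
    ext r i
    have := congrFun (hv i) r
    rw [Matrix.mul_diagonal]
    simpa [hP, Matrix.mul_apply, Matrix.mulVec, dotProduct, mul_comm] using this
  let D : Matrix (Fin 3) (Fin 3) F := Matrix.diagonal ![P.det⁻¹, 1, 1]
  refine ⟨⟨P * D, by simp [D, Matrix.det_diagonal, Fin.prod_univ_three, hPd]⟩, ?_⟩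
  apply Subtype.ext
  show M * (P * D) = P * D * Matrix.diagonal lam
  rw [← Matrix.mul_assoc, hMP, Matrix.mul_assoc, Matrix.mul_assoc, Matrix.diagonal_mul_diagonal,
    Matrix.diagonal_mul_diagonal]
  simp [mul_comm]

end Cfsg.Agent.SL34
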