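import Cfsg.Agent.SLMult.L34
import Cfsg.Prelude.Def_CaseTheorems

/-!
Elementary abelian central 2-extensions of PSL(3,4).
-/

set_option autoImplicit false

namespace Cfsg.Agent.SL34

open scoped commutatorElement

/-- A surjection between groups with suitable orders is bijective. -/
theorem bij_of_card {Y L S : Type*} [Group Y] [Finite Y] [Group L] [Finite L] [Group S]
    (D : Subgroup Y) (p : Y →* L) (hc : Nat.card (Subgroup.center L) = 4)
    (e : L ⧸ Subgroup.center L ≃* S) (hm : D.map p = ⊤) (hD : Nat.card D ≤ 4 * Nat.card S) :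
    Function.Bijective (p.comp D.subtype) := by
  have hsur : Function.Surjective (p.comp D.subtype) := fun a => by
    obtain ⟨d, hd, rfl⟩ : a ∈ D.map p := by rw [hm]; trivial
    exact ⟨⟨d, hd⟩, rfl⟩
  refine (Nat.bijective_iff_surjective_and_card _).2 ⟨hsur, le_antisymm ?_ (Nat.card_le_card_of_surjective _ hsur)⟩
  rw [Subgroup.card_eq_card_quotient_mul_card_subgroup (Subgroup.center L), hc, Nat.card_congr e.toEquiv, mul_comm]
  exact hD

/-- A stem extension with elementary abelian kernel of exponent two has kernel of order at most four. -/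
theorem card_ker_le_four {F : Type} [Field F] [Fintype F] (hF : Fintype.card F = 4) {Γ : Type*} [Group Γ]
    [Finite Γ] (σ : Γ →* Matrix.ProjectiveSpecialLinearGroup (Fin 3) F)
    (hσ : Cfsg.IsStemExtension σ) (h2 : ∀ z ∈ σ.ker, z * z = 1) : Nat.card σ.ker ≤ 4 := by
  obtain ⟨w, hw, h2'⟩ := SLMult.L34.exists_omega hF
  let e : Shrink.{0} Γ ≃* Γ := Shrink.mulEquiv.{0}
  have hσ' : Cfsg.IsStemExtension (σ.comp e.toMonoidHom) := by
    refine ⟨hσ.1.comp e.surjective, fun x hx => ?_, fun x hx => ?_⟩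
    · rw [Subgroup.mem_center_iff]
      intro g
      apply e.injective
      rw [map_mul, map_mul]
      exact Subgroup.mem_center_iff.1 (hσ.2.1 (MonoidHom.mem_ker.2 (MonoidHom.mem_ker.1 hx))) (e g)
    · have h := Subgroup.mem_map_of_mem e.symm.toMonoidHom
        (hσ.2.2 (MonoidHom.mem_ker.2 (MonoidHom.mem_ker.1 hx) : e x ∈ σ.ker))
      rw [commutator_def, Subgroup.map_commutator,
        Subgroup.map_top_of_surjective _ e.symm.surjective, ← commutator_def] at h
      simpa using h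
  obtain ⟨π, hπ⟩ := SLMult.L34.kernel_bound w hF hw h2' (σ.comp e.toMonoidHom) hσ'
  let V := ZMod 3 × ZMod 4 × ZMod 4
  have hsq : ∀ v : V, π (Multiplicative.ofAdd (v + v)) = 1 := by
    intro v
    rw [ofAdd_add, map_mul]
    apply Subtype.ext
    apply e.injective
    rw [Subgroup.coe_mul, map_mul, OneMemClass.coe_one, map_one]
    exact h2 _ (MonoidHom.mem_ker.2 (MonoidHom.mem_ker.1 (π (Multiplicative.ofAdd v)).2))
  let f : Fin 2 × Fin 2 → (σ.comp e.toMonoidHom).ker := fun p =>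
    π (Multiplicative.ofAdd ((0, (p.1.val : ZMod 4), (p.2.val : ZMod 4)) : V))
  have hf : Function.Surjective f := by
    intro z
    obtain ⟨v, rfl⟩ := hπ z
    obtain ⟨⟨a, b, c⟩, rfl⟩ := Multiplicative.ofAdd.surjective v
    have key : ∀ x : ZMod 4, ∃ i : Fin 2, ∃ y : ZMod 4, x = (i.val : ZMod 4) + (y + y) := by decide
    have key3 : ∀ x : ZMod 3, ∃ y : ZMod 3, x = 0 + (y + y) := by decide
    obtain ⟨y, hy⟩ := key3 a
    obtain ⟨i, yb, hb⟩ := key b
    obtain ⟨j, yc, hc⟩ := key c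
    refine ⟨(i, j), ?_⟩
    show π (Multiplicative.ofAdd ((0, (i.val : ZMod 4), (j.val : ZMod 4)) : V)) = _
    rw [show ((a, b, c) : V) = (0, (i.val : ZMod 4), (j.val : ZMod 4)) + ((y, yb, yc) + (y, yb, yc)) by
      rw [hy, hb, hc]; rfl, ofAdd_add, map_mul, hsq, mul_one]
  have h4 := Nat.card_le_card_of_surjective f hf
  have hc : Nat.card (σ.comp e.toMonoidHom).ker = Nat.card σ.ker :=
    Nat.card_congr (e.toEquiv.subtypeEquiv fun x => Iff.rfl)
  rw [← hc]
  simpa using h4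

/-- Quasisimple central extensions with elementary centre of order four are determined by the quotient. -/
theorem unique_cover {F : Type} [Field F] [Fintype F] (hF : Fintype.card F = 4)
    {L₁ L₂ : Type*} [Group L₁] [Finite L₁] [Group L₂] [Finite L₂]
    (h₁ : Cfsg.IsQuasisimple L₁) (h₂ : Cfsg.IsQuasisimple L₂)
    (hc₁ : Nat.card (Subgroup.center L₁) = 4) (hc₂ : Nat.card (Subgroup.center L₂) = 4)
    (he₁ : ∀ x ∈ Subgroup.center L₁, x * x = 1) (he₂ : ∀ x ∈ Subgroup.center L₂, x * x = 1)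
    (e₁ : L₁ ⧸ Subgroup.center L₁ ≃* Matrix.ProjectiveSpecialLinearGroup (Fin 3) F)
    (e₂ : L₂ ⧸ Subgroup.center L₂ ≃* Matrix.ProjectiveSpecialLinearGroup (Fin 3) F) :
    Nonempty (L₁ ≃* L₂) := by
  let π₁ := e₁.toMonoidHom.comp (QuotientGroup.mk' (Subgroup.center L₁))
  let π₂ := e₂.toMonoidHom.comp (QuotientGroup.mk' (Subgroup.center L₂))
  have s₁ : Function.Surjective π₁ := e₁.surjective.comp (QuotientGroup.mk'_surjective _)
  have s₂ : Function.Surjective π₂ := e₂.surjective.comp (QuotientGroup.mk'_surjective _)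
  have k₁ : ∀ x, π₁ x = 1 ↔ x ∈ Subgroup.center L₁ := fun x => by simp [π₁]
  have k₂ : ∀ x, π₂ x = 1 ↔ x ∈ Subgroup.center L₂ := fun x => by simp [π₂]
  let Y : Subgroup (L₁ × L₂) := (π₁.comp (MonoidHom.fst L₁ L₂)).eqLocus (π₂.comp (MonoidHom.snd L₁ L₂))
  have hY : ∀ p : L₁ × L₂, p ∈ Y ↔ π₁ p.1 = π₂ p.2 := fun p => Iff.rfl
  let p₁ : Y →* L₁ := (MonoidHom.fst L₁ L₂).comp Y.subtype
  let p₂ : Y →* L₂ := (MonoidHom.snd L₁ L₂).comp Y.subtype
  have q₁ : Function.Surjective p₁ := fun a => by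
    obtain ⟨b, hb⟩ := s₂ (π₁ a)
    exact ⟨⟨(a, b), (hY _).2 hb.symm⟩, rfl⟩
  have q₂ : Function.Surjective p₂ := fun b => by
    obtain ⟨a, ha⟩ := s₁ (π₂ b)
    exact ⟨⟨(a, b), (hY _).2 ha⟩, rfl⟩
  let D : Subgroup Y := commutator Y
  let ρ : Y →* Matrix.ProjectiveSpecialLinearGroup (Fin 3) F := π₁.comp p₁
  have m₁ : D.map p₁ = ⊤ := by
    show (commutator Y).map p₁ = ⊤
    rw [commutator_def, Subgroup.map_commutator, Subgroup.map_top_of_surjective _ q₁, ← commutator_def]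
    exact h₁.1.commutator_eq_top
  have m₂ : D.map p₂ = ⊤ := by
    show (commutator Y).map p₂ = ⊤
    rw [commutator_def, Subgroup.map_commutator, Subgroup.map_top_of_surjective _ q₂, ← commutator_def]
    exact h₂.1.commutator_eq_top
  have kρ : ∀ y : Y, ρ y = 1 → p₁ y ∈ Subgroup.center L₁ ∧ p₂ y ∈ Subgroup.center L₂ := fun y hy =>
    ⟨(k₁ _).1 hy, (k₂ _).1 (((hY _).1 y.2).symm.trans hy)⟩
  have hcen : ∀ y : Y, ρ y = 1 → y ∈ Subgroup.center Y := fun y hy => by
    rw [Subgroup.mem_center_iff]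
    intro g
    exact Subtype.ext (Prod.ext (Subgroup.mem_center_iff.1 (kρ y hy).1 _)
      (Subgroup.mem_center_iff.1 (kρ y hy).2 _))
  -- the derived subgroup is perfect
  have hsup : ∀ g : Y, ∃ d ∈ D, ∃ z ∈ Subgroup.center Y, g = d * z := by
    intro g
    obtain ⟨d, hd, hd'⟩ : p₁ g ∈ D.map p₁ := by rw [m₁]; trivial
    refine ⟨d, hd, d⁻¹ * g, hcen _ ?_, by group⟩
    show π₁ (p₁ (d⁻¹ * g)) = 1
    rw [map_mul, map_inv, hd', inv_mul_cancel, map_one]
  have hperf : D ≤ ⁅D, D⁆ := by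
    show commutator Y ≤ _
    rw [commutator_def, Subgroup.commutator_le]
    intro a _ b _
    obtain ⟨d, hd, z, hz, rfl⟩ := hsup a
    obtain ⟨d', hd', z', hz', rfl⟩ := hsup b
    have e : ⁅d * z, d' * z'⁆ = ⁅d, d'⁆ := by
      simp only [commutatorElement_def, mul_inv_rev]
      have hz1 : ∀ g : Y, g * z = z * g := fun g => Subgroup.mem_center_iff.1 hz g
      have hz2 : ∀ g : Y, g * z' = z' * g := fun g => Subgroup.mem_center_iff.1 hz' g
      calc d * z * (d' * z') * (z⁻¹ * d⁻¹) * (z'⁻¹ * d'⁻¹)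
          = d * (z * (d' * z')) * z⁻¹ * d⁻¹ * z'⁻¹ * d'⁻¹ := by group
        _ = d * (d' * z') * d⁻¹ * z'⁻¹ * d'⁻¹ := by rw [← hz1 (d' * z')]; group
        _ = d * d' * (z' * d⁻¹) * z'⁻¹ * d'⁻¹ := by group
        _ = d * d' * d⁻¹ * d'⁻¹ := by rw [← hz2 d⁻¹]; group
    rw [e]
    exact Subgroup.commutator_mem_commutator hd hd'
  let σ : D →* Matrix.ProjectiveSpecialLinearGroup (Fin 3) F := ρ.comp D.subtype
  have hσs : Function.Surjective σ := fun x => by
    obtain ⟨a, rfl⟩ := s₁ x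
    obtain ⟨d, hd, rfl⟩ : a ∈ D.map p₁ := by rw [m₁]; trivial
    exact ⟨⟨d, hd⟩, rfl⟩
  have hσ : Cfsg.IsStemExtension σ := by
    refine ⟨hσs, fun x hx => ?_, fun x _ => ?_⟩
    · rw [Subgroup.mem_center_iff]
      exact fun g => Subtype.ext (Subgroup.mem_center_iff.1 (hcen x hx) g)
    · have h := hperf x.2
      rw [← Subgroup.map_subtype_commutator] at h
      obtain ⟨t, ht, e⟩ := h
      rwa [show x = t from Subtype.ext e.symm]
  have hk : Nat.card σ.ker ≤ 4 := card_ker_le_four hF σ hσ fun z hz =>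
    Subtype.ext (Subtype.ext (Prod.ext (he₁ _ (kρ z hz).1) (he₂ _ (kρ z hz).2)))
  have hD : Nat.card D ≤ 4 * Nat.card (Matrix.ProjectiveSpecialLinearGroup (Fin 3) F) := by
    rw [← Subgroup.card_mul_index σ.ker, Subgroup.index_ker, MonoidHom.range_eq_top.2 hσs,
      Subgroup.card_top]
    exact Nat.mul_le_mul_right _ hk
  exact ⟨(MulEquiv.ofBijective _ (bij_of_card D p₁ hc₁ e₁ m₁ hD)).symm.trans
    (MulEquiv.ofBijective _ (bij_of_card D p₂ hc₂ e₂ m₂ hD))⟩

end Cfsg.Agent.SL34
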